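import Groth.Agent.S3022
import Groth.Agent.Sga3C.HomogConn
import Groth.Agent.Ega43.OpenAt
import Groth.Agent.Localalg.GrpSchComp2
import Groth.Prelude.Def_SGA3x

/-!
# Neutral components of the fibres of a group scheme

* the neutral component of each fibre is irreducible;
* for an lfp group scheme with locally constant fibre dimension the structure morphism is open at
  every point of the neutral set.
-/

set_option autoImplicit false
universe u
open CategoryTheory MonoidalCategory CartesianMonoidalCategory MonObj GrpObj AlgebraicGeometry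

namespace Groth.Agent.Sga3.H820.NeutralOpen

open Groth.Agent.CycB.RelDim Groth.Agent.S3022

/-- Connected components of group schemes over a field are irreducible. -/
theorem isPreirreducible_connectedComponent {K : Type u} [Field K]
    (G : Over (Spec (CommRingCat.of K))) [GrpObj G] (x : G.left) :
    IsPreirreducible (connectedComponent x) := by
  have := Groth.Agent.Localalg.GrpSchComp2.quasiSeparatedSpace G
  exact Groth.Agent.Sga3C.HomogConn.isPreirreducible_connectedComponent
    (Groth.Agent.Sga3C.Transl.regular G) (Groth.Agent.Sga3C.Transl.surjective_regular G) x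

variable {S : Scheme.{u}} (G : Over S) [GrpObj G]

/-- The unit section as a morphism of schemes. -/
noncomputable abbrev e : S ⟶ G.left := (η[G] : 𝟙_ (Over S) ⟶ G).left

lemma hom_e (s : S) : G.hom (e G s) = s := by
  have h1 : e G ≫ G.hom = 𝟙 S := Over.w (η[G] : 𝟙_ (Over S) ⟶ G)
  rw [← Scheme.Hom.comp_apply, h1]
  rfl

/-- The neutral component of the fibre at `s`. -/
def neutral (s : S) : Set G.left := connectedComponentIn (G.hom ⁻¹' {s}) (e G s)

lemma e_mem (s : S) : e G s ∈ neutral G s :=
  mem_connectedComponentIn (hom_e G s)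

lemma hom_of_mem {s : S} {x : G.left} (hx : x ∈ neutral G s) : G.hom x = s :=
  connectedComponentIn_subset (G.hom ⁻¹' {s}) _ hx

lemma neutralSet_eq : SGA3x.neutralSet G = ⋃ s : S, neutral G s := rfl

lemma mem_neutralSet_iff (x : G.left) : x ∈ SGA3x.neutralSet G ↔ x ∈ neutral G (G.hom x) := by
  rw [neutralSet_eq, Set.mem_iUnion]
  constructor
  · rintro ⟨s, hs⟩
    rwa [hom_of_mem G hs]
  · intro h
    exact ⟨_, h⟩

/-- The neutral component of a fibre, as the image of the connected component of a point in the
scheme theoretic fibre. -/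
lemma neutral_eq_image (s : S) (z : G.hom.fiber s) (hz : G.hom.fiberι s z = e G s) :
    neutral G s = G.hom.fiberι s '' connectedComponent z := by
  unfold neutral
  rw [connectedComponentIn_eq_image (show e G s ∈ G.hom ⁻¹' {s} from hom_e G s)]
  have h1 : (G.hom.fiberHomeo s) z = ⟨e G s, hom_e G s⟩ := Subtype.ext hz
  have h2 : (G.hom.fiberHomeo s) '' connectedComponent z =
      connectedComponent ((G.hom.fiberHomeo s) z) := by
    apply subset_antisymm
    · exact (G.hom.fiberHomeo s).continuous.image_connectedComponent_subset z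
    · have := (G.hom.fiberHomeo s).symm.continuous.image_connectedComponent_subset
        ((G.hom.fiberHomeo s) z)
      rw [Homeomorph.symm_apply_apply] at this
      intro w hw
      exact ⟨(G.hom.fiberHomeo s).symm w, this ⟨w, hw, rfl⟩, Homeomorph.apply_symm_apply _ _⟩
  rw [← h1, ← h2, Set.image_image]
  rfl

/-- The fibre as an object over the residue field. -/
noncomputable abbrev fibObj (s : S) : Over (Spec (CommRingCat.of (S.residueField s))) :=
  (Over.pullback (S.fromSpecResidueField s)).obj G

/-- The neutral component of a fibre is irreducible. -/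
theorem isPreirreducible_neutral (s : S) : IsPreirreducible (neutral G s) := by
  have hr : e G s ∈ Set.range (G.hom.fiberι s) := by
    rw [Scheme.Hom.range_fiberι]; exact hom_e G s
  obtain ⟨z, hz⟩ := hr
  rw [neutral_eq_image G s z hz]
  let _ : GrpObj (fibObj G s) := Functor.grpObjObj
  have h1 : IsPreirreducible (connectedComponent (α := (fibObj G s).left) z) :=
    isPreirreducible_connectedComponent (fibObj G s) z
  exact h1.image _ (G.hom.fiberι s).continuous.continuousOn

/-- The neutral component is stable under generization inside the fibre. -/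
lemma mem_neutral_of_specializes {s : S} {x y : G.left} (hy : y ∈ neutral G s) (hx : G.hom x = s)
    (h : x ⤳ y) : x ∈ neutral G s := by
  have h1 : G.hom x = s := hx
  have h2 : y ∈ G.hom ⁻¹' {s} := hom_of_mem G hy
  have h3 : _root_.IsPreconnected ({x, y} : Set G.left) := by
    have h4 : _root_.IsPreconnected ({x} : Set G.left) := isPreconnected_singleton
    refine h4.subset_closure (by simp) ?_
    rintro z (rfl | hz)
    · exact subset_closure rfl
    · rw [Set.mem_singleton_iff] at hz
      subst hz
      exact h.mem_closure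
  have h5 : ({x, y} : Set G.left) ⊆ G.hom ⁻¹' {s} := by
    rintro z (rfl | hz)
    · exact h1
    · rw [Set.mem_singleton_iff] at hz
      subst hz
      exact h2
  have h6 := h3.subset_connectedComponentIn (show y ∈ ({x, y} : Set G.left) by simp) h5
  unfold neutral at hy ⊢
  rw [connectedComponentIn_eq hy]
  exact h6 (by simp)

/-- The generic point of the neutral component of a fibre. -/
theorem exists_generic (s : S) : ∃ ζ ∈ neutral G s, ∀ g ∈ neutral G s, ζ ⤳ g := by
  have hr : e G s ∈ Set.range (G.hom.fiberι s) := by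
    rw [Scheme.Hom.range_fiberι]; exact hom_e G s
  obtain ⟨z, hz⟩ := hr
  let _ : GrpObj (fibObj G s) := Functor.grpObjObj
  have h1 : IsPreirreducible (connectedComponent (α := (fibObj G s).left) z) :=
    isPreirreducible_connectedComponent (fibObj G s) z
  obtain ⟨w, hw⟩ := QuasiSober.sober (α := (fibObj G s).left) ⟨⟨z, mem_connectedComponent⟩, h1⟩
    isClosed_connectedComponent
  rw [neutral_eq_image G s z hz]
  refine ⟨G.hom.fiberι s w, ⟨w, hw.mem, rfl⟩, ?_⟩
  rintro _ ⟨v, hv, rfl⟩
  have h2 : w ⤳ v := hw.specializes hv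
  exact h2.map (G.hom.fiberι s).continuous

section lft

variable [LocallyOfFiniteType G.hom]

omit [GrpObj G] in
/-- A point of the fibre at `s` whose residue field has the maximal transcendence degree is
generic in the fibre. -/
lemma fibGeneric_of_le {s : S} {d : ℕ} (hd : ∀ x : G.left, G.hom x = s → FibGeneric G.hom x →
    rtd G.hom x = d) {x : G.left} (hx : G.hom x = s) (h : (d : Cardinal) ≤ rtd G.hom x) :
    FibGeneric G.hom x := by
  intro x' hx' hsp
  by_contra hne
  have h1 := rtd_lt_of_specializes G.hom hsp hne hx'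
  obtain ⟨x'', h2, h3, h4⟩ := exists_fibGeneric_specializes G.hom x'
  have h5 := Groth.Agent.VarietyA.LocDim.rtd_le_of_specializes G.hom h2 h3
  rw [hd x'' (h3.trans (hx'.trans hx)) h4] at h5
  exact absurd (h.trans_lt h1) (not_lt.mpr h5)

/-- Semicontinuity of the fibre dimension on the closure of a point: if `ξ ⤳ x` then there is a
generization `z` of `x` in the fibre through `x`, in the closure of `ξ`, whose transcendence degree
is at least the one of `ξ`. -/
theorem exists_rtd_ge {X Y : Scheme.{u}} (f : X ⟶ Y) [LocallyOfFiniteType f] {ξ x : X}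
    (h : ξ ⤳ x) : ∃ z : X, ξ ⤳ z ∧ z ⤳ x ∧ f z = f x ∧ rtd f ξ ≤ rtd f z := by
  obtain ⟨Z, i, hi, hr⟩ := Groth.Agent.Localalg.GrpSchComp.exists_isClosedImmersion X
    (closure {ξ}) isClosed_closure
  obtain ⟨t', ht'⟩ : ξ ∈ Set.range i := by rw [hr]; exact subset_closure rfl
  obtain ⟨t, ht⟩ : x ∈ Set.range i := by rw [hr]; exact h.mem_closure
  have hrtd : ∀ w : Z, rtd (i ≫ f) w = rtd f (i w) := by
    intro w
    rw [rtd_comp, rtd_eq_zero_of_isPreimmersion i, add_zero]
  have hsp : t' ⤳ t := by
    rw [← i.isClosedEmbedding.isInducing.specializes_iff, ht, ht']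
    exact h
  obtain ⟨n, hn, hn'⟩ := Groth.Agent.VarietyA.LocDim.le_fibreDimAt (i ≫ f) t' t' specializes_rfl rfl
  obtain ⟨z, hz1, hz2, hz3⟩ : ∃ z : Z, z ⤳ t ∧ (i ≫ f) z = (i ≫ f) t ∧
      (n : Cardinal) ≤ rtd (i ≫ f) z := by
    rcases n with _ | m
    · exact ⟨t, specializes_rfl, rfl, by simp⟩
    · by_contra! hcon
      have h1 : FlatMor.fibreDimAt (i ≫ f) t ≤ m := by
        refine Groth.Agent.VarietyA.LocDim.fibreDimAt_le (i ≫ f) t m fun z hz hz' => ?_
        have h2 := hcon z hz hz'
        rw [Nat.cast_add, Nat.cast_one] at h2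
        have h3 : rtd (i ≫ f) z < Cardinal.aleph0 := rtd_lt_aleph0 _ _
        obtain ⟨k, hk⟩ := Cardinal.lt_aleph0.mp h3
        rw [hk] at h2 ⊢
        have h4 : k < m + 1 := by exact_mod_cast h2
        exact_mod_cast Nat.lt_succ_iff.mp h4
      have h2 : t' ∈ {w | FlatMor.fibreDimAt (i ≫ f) w ≤ m} :=
        hsp.mem_open (Groth.Agent.S0402.result (i ≫ f) m) h1
      have h3 := hn'.trans h2
      have h4 : m + 1 ≤ m := by exact_mod_cast h3
      omega
  refine ⟨i z, ?_, ?_, ?_, ?_⟩
  · rw [specializes_iff_mem_closure, ← hr]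
    exact ⟨z, rfl⟩
  · rw [← ht]
    exact hz1.map i.continuous
  · rw [← ht]
    simpa using hz2
  · rw [← ht', ← hrtd, ← hrtd, hn]
    exact hz3

/-- If `y ⤳ s` and the fibres of `G` at `y` and `s` have the same dimension, then the neutral
component of the fibre at `s` lies in the closure of a point of the neutral component of the fibre
at `y`. -/
theorem exists_specializes {y s : S} (hys : y ⤳ s)
    (hdim : topologicalKrullDim (G.hom ⁻¹' {y}) = topologicalKrullDim (G.hom ⁻¹' {s})) :
    ∃ ξ ∈ neutral G y, ∀ g ∈ neutral G s, ξ ⤳ g := by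
  obtain ⟨d, hd, hd'⟩ := exists_dim G y
  obtain ⟨d₁, hd₁, hd₁'⟩ := exists_dim G s
  have hdd : d₁ = d := by
    rw [dim_fiber] at hd hd₁
    rw [hd, hd₁] at hdim
    exact_mod_cast hdim.symm
  subst hdd
  obtain ⟨ξ, h1, h2, h3⟩ := exists_fibGeneric_specializes G.hom (e G y)
  rw [hom_e] at h2
  have h4 : ξ ⤳ e G s := h1.trans (hys.map (e G).continuous)
  obtain ⟨ζ, h5, h6, h7, h8⟩ := exists_rtd_ge G.hom h4
  rw [hom_e] at h7
  rw [hd' ξ h2 h3] at h8
  have h9 : FibGeneric G.hom ζ := fibGeneric_of_le G hd₁' h7 h8
  obtain ⟨η₀, h10, h11⟩ := exists_generic G s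
  have h12 : ζ ∈ neutral G s := mem_neutral_of_specializes G (e_mem G s) h7 h6
  have h13 : η₀ = ζ := h9 η₀ ((hom_of_mem G h10).trans h7.symm) (h11 ζ h12)
  subst h13
  exact ⟨ξ, mem_neutral_of_specializes G (e_mem G y) h2 h1, fun g hg => h5.trans (h11 g hg)⟩

end lft

/-- The structure morphism of a locally finitely presented group scheme with locally constant
fibre dimension is open at every point of the neutral set. -/
theorem isOpenAt_of_mem_neutral [LocallyOfFinitePresentation G.hom]
    (hdim : IsLocallyConstant (fun s : S => topologicalKrullDim ↥(G.hom.base ⁻¹' {s})))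
    {s : S} {g : G.left} (hg : g ∈ neutral G s) : EGA43.IsOpenAt G.hom g := by
  refine Groth.Agent.Ega43.OpenAt.isOpenAt_of_forall_specializes G.hom g fun U hU y hy => ?_
  rw [hom_of_mem G hg] at hy
  have h1 : topologicalKrullDim (G.hom ⁻¹' {y}) = topologicalKrullDim (G.hom ⁻¹' {s}) := by
    have h2 := hdim {topologicalKrullDim ↥(G.hom.base ⁻¹' {s})}
    exact hy.mem_open h2 rfl
  obtain ⟨ξ, h3, h4⟩ := exists_specializes G hy h1
  exact ⟨ξ, (h4 g hg).mem_open U.2 hU, hom_of_mem G h3⟩

theorem isOpenAt_of_mem_neutralSet [LocallyOfFinitePresentation G.hom]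
    (hdim : IsLocallyConstant (fun s : S => topologicalKrullDim ↥(G.hom.base ⁻¹' {s})))
    {g : G.left} (hg : g ∈ SGA3x.neutralSet G) : EGA43.IsOpenAt G.hom g :=
  isOpenAt_of_mem_neutral G hdim ((mem_neutralSet_iff G g).mp hg)

/-- A continuous endomap of `G` over `S` fixing the point `e s` preserves the neutral component of
the fibre at `s`. -/
lemma map_mem_neutral {H : Over S} [GrpObj H] (φ : G ⟶ H) {s : S} (hφ : φ.left (e G s) = e H s)
    {g : G.left} (hg : g ∈ neutral G s) : φ.left g ∈ neutral H s := by
  have hw : ∀ x, H.hom (φ.left x) = G.hom x := by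
    intro x
    rw [← Scheme.Hom.comp_apply, Over.w φ]
  have h1 : _root_.IsPreconnected (φ.left '' neutral G s) :=
    isPreconnected_connectedComponentIn.image _ φ.left.continuous.continuousOn
  have h2 : φ.left '' neutral G s ⊆ H.hom ⁻¹' {s} := by
    rintro _ ⟨x, hx, rfl⟩
    exact (hw x).trans (hom_of_mem G hx)
  have h3 := h1.subset_connectedComponentIn ⟨e G s, e_mem G s, hφ⟩ h2
  exact h3 ⟨g, hg, rfl⟩

end Groth.Agent.Sga3.H820.NeutralOpen
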